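import Groth.Agent.ResProp.EF.K10.Noeth
import Mathlib.CategoryTheory.MorphismProperty.Composition
import Mathlib.CategoryTheory.Abelian.Basic
import Mathlib.Algebra.Category.ModuleCat.Abelian
import Mathlib.Algebra.Category.ModuleCat.Colimits
import Mathlib.Algebra.Homology.ShortComplex.ModuleCat
import Mathlib.RingTheory.Finiteness.Basic

/-!
# Classes which can be killed by good morphisms (the calculus of the class LL, nodes C1 - C4)

`good` is a multiplicative class of morphisms of a category `D`. `LL good h` : every element of `h.obj Y` is killed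
by a good morphism `Y ⟶ Y'`. The functors `h : D ⥤ ModuleCat A` with this property form a Serre class, stable under
all jointly surjective families (sums, directed unions, filtered colimits). For a family `h j M` (`j : ℤ`,
`M` an `A`-module) which is a `δ`-functor in `M` commuting with directed unions the modules `M` with all `h j M` in
`LL` satisfy the hypotheses of the Noetherian induction `K10.Stab`.
-/

set_option autoImplicit false

universe w w' v u t

open CategoryTheory CategoryTheory.Limits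

namespace Groth.Agent.ResProp.EF.K894

variable {D : Type t} [Category.{v} D] (good : MorphismProperty D)
variable {B : Type w'} [Ring B]

/-- every element of every value of `h` is killed by a good morphism -/
def LL (h : D ⥤ ModuleCat.{w} B) : Prop :=
  ∀ (Y : D) (y : h.obj Y), ∃ (Y' : D) (f : Y ⟶ Y'), good f ∧ (h.map f).hom y = 0

/-- elementwise exactness in the middle of a composable pair of natural transformations -/
def Mid {h₁ h₂ h₃ : D ⥤ ModuleCat.{w} B} (a : h₁ ⟶ h₂) (b : h₂ ⟶ h₃) : Prop :=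
  ∀ (Y : D) (y : h₂.obj Y), (b.app Y).hom y = 0 → ∃ x : h₁.obj Y, (a.app Y).hom x = y

variable {good}

lemma nat_apply {h₁ h₂ : D ⥤ ModuleCat.{w} B} (a : h₁ ⟶ h₂) {Y Y' : D} (f : Y ⟶ Y') (y : h₁.obj Y) :
    (a.app Y').hom ((h₁.map f).hom y) = (h₂.map f).hom ((a.app Y).hom y) := by
  have := congrArg (fun g => g.hom y) (a.naturality f)
  simpa only [ModuleCat.hom_comp, LinearMap.comp_apply] using this

lemma map_comp_apply (h : D ⥤ ModuleCat.{w} B) {Y Y' Y'' : D} (f : Y ⟶ Y') (g : Y' ⟶ Y'') (y : h.obj Y) :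
    (h.map (f ≫ g)).hom y = (h.map g).hom ((h.map f).hom y) := by
  rw [h.map_comp]; rfl

lemma map_id_apply (h : D ⥤ ModuleCat.{w} B) {Y : D} (y : h.obj Y) :
    (h.map (𝟙 Y)).hom y = y := by
  rw [h.map_id]; rfl

namespace LL

/-- jointly surjective families of subobjects: unions, filtered colimits, quotients -/
theorem of_joint {ι : Type*} {h : D ⥤ ModuleCat.{w} B} (h' : ι → (D ⥤ ModuleCat.{w} B)) (a : ∀ i, h' i ⟶ h)
    (hs : ∀ (Y : D) (y : h.obj Y), ∃ (i : ι) (x : (h' i).obj Y), ((a i).app Y).hom x = y)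
    (H : ∀ i, LL good (h' i)) : LL good h := by
  intro Y y
  obtain ⟨i, x, rfl⟩ := hs Y y
  obtain ⟨Y', f, hf, h0⟩ := H i Y x
  exact ⟨Y', f, hf, by rw [← nat_apply, h0, map_zero]⟩

/-- quotients -/
theorem of_surj {h₁ h : D ⥤ ModuleCat.{w} B} (a : h₁ ⟶ h)
    (hs : ∀ (Y : D), Function.Surjective ((a.app Y).hom)) (H : LL good h₁) : LL good h :=
  of_joint (ι := Unit) (fun _ => h₁) (fun _ => a) (fun Y y => ⟨(), hs Y y⟩) fun _ => H

/-- subobjects -/
theorem of_inj {h h₂ : D ⥤ ModuleCat.{w} B} (b : h ⟶ h₂)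
    (hi : ∀ (Y : D), Function.Injective ((b.app Y).hom)) (H : LL good h₂) : LL good h := by
  intro Y y
  obtain ⟨Y', f, hf, h0⟩ := H Y ((b.app Y).hom y)
  refine ⟨Y', f, hf, hi Y' ?_⟩
  rw [nat_apply, h0, map_zero]

theorem of_iso {h₁ h₂ : D ⥤ ModuleCat.{w} B} (e : h₁ ≅ h₂) (H : LL good h₁) : LL good h₂ :=
  of_inj e.inv (fun Y => by
    have : Function.LeftInverse ((e.hom.app Y).hom) ((e.inv.app Y).hom) := fun y => by
      have := congrArg (fun g => g.hom y) (e.inv_hom_id_app Y)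
      simpa only [ModuleCat.hom_comp, LinearMap.comp_apply, ModuleCat.hom_id, LinearMap.id_apply] using this
    exact this.injective) H

/-- direct summands (retracts) -/
theorem of_retract {h₁ h₂ : D ⥤ ModuleCat.{w} B} (i : h₁ ⟶ h₂) (r : h₂ ⟶ h₁) (hir : i ≫ r = 𝟙 h₁)
    (H : LL good h₂) : LL good h₁ :=
  of_inj i (fun Y => by
    have : Function.LeftInverse ((r.app Y).hom) ((i.app Y).hom) := fun y => by
      have := congrArg (fun g => (g.app Y).hom y) hir
      simpa using this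
    exact this.injective) H

/-- zero functors -/
theorem of_zero [good.ContainsIdentities] {h : D ⥤ ModuleCat.{w} B} (hz : ∀ (Y : D) (y : h.obj Y), y = 0) :
    LL good h := fun Y y => ⟨Y, 𝟙 Y, good.id_mem Y, by rw [hz Y y, map_zero]⟩

/-- the middle of an exact sequence -/
theorem mid [good.IsStableUnderComposition] {h₁ h₂ h₃ : D ⥤ ModuleCat.{w} B} (a : h₁ ⟶ h₂) (b : h₂ ⟶ h₃)
    (hab : Mid a b) (H₁ : LL good h₁) (H₃ : LL good h₃) : LL good h₂ := by
  intro Y y
  obtain ⟨Y', f, hf, h0⟩ := H₃ Y ((b.app Y).hom y)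
  rw [← nat_apply] at h0
  obtain ⟨x, hx⟩ := hab Y' _ h0
  obtain ⟨Y'', g, hg, h1⟩ := H₁ Y' x
  refine ⟨Y'', f ≫ g, good.comp_mem f g hf hg, ?_⟩
  rw [map_comp_apply, ← hx, ← nat_apply, h1, map_zero]

/-- finitely many classes, of several functors, are killed by one good map -/
theorem finite [good.IsMultiplicative] {κ : Type*} (s : Finset κ) (h : κ → (D ⥤ ModuleCat.{w} B))
    (H : ∀ k ∈ s, LL good (h k)) (Y : D) (y : ∀ k, (h k).obj Y) :
    ∃ (Y' : D) (f : Y ⟶ Y'), good f ∧ ∀ k ∈ s, ((h k).map f).hom (y k) = 0 := by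
  classical
  induction s using Finset.induction_on with
  | empty => exact ⟨Y, 𝟙 Y, good.id_mem Y, fun k hk => absurd hk (Finset.notMem_empty k)⟩
  | insert k s hk ih =>
    obtain ⟨Y', f, hf, h0⟩ := ih fun k' hk' => H k' (Finset.mem_insert_of_mem hk')
    obtain ⟨Y'', g, hg, h1⟩ := H k (Finset.mem_insert_self k s) Y' (((h k).map f).hom (y k))
    refine ⟨Y'', f ≫ g, good.comp_mem f g hf hg, fun k' hk' => ?_⟩
    rw [map_comp_apply]
    rcases Finset.mem_insert.1 hk' with rfl | hk'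
    · exact h1
    · rw [h0 k' hk', map_zero]

/-- a finitely generated submodule is killed by one good map -/
theorem fg [good.IsMultiplicative] {h : D ⥤ ModuleCat.{w} B} (H : LL good h) (Y : D)
    (N : Submodule B (h.obj Y)) (hN : N.FG) :
    ∃ (Y' : D) (f : Y ⟶ Y'), good f ∧ ∀ y ∈ N, (h.map f).hom y = 0 := by
  obtain ⟨s, rfl⟩ := hN
  obtain ⟨Y', f, hf, h0⟩ := finite (good := good) (κ := h.obj Y) s (fun _ => h) (fun _ _ => H) Y fun y => y
  refine ⟨Y', f, hf, fun y hy => ?_⟩
  have hle : Submodule.span B (s : Set (h.obj Y)) ≤ LinearMap.ker (h.map f).hom :=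
    Submodule.span_le.2 fun y hy => h0 y hy
  exact hle hy

/-- all classes of a finite module are killed by one good map -/
theorem killAll [good.IsMultiplicative] {h : D ⥤ ModuleCat.{w} B} (H : LL good h) (Y : D)
    [Module.Finite B (h.obj Y)] :
    ∃ (Y' : D) (f : Y ⟶ Y'), good f ∧ ∀ y, (h.map f).hom y = 0 := by
  obtain ⟨Y', f, hf, h0⟩ := fg H Y ⊤ Module.Finite.fg_top
  exact ⟨Y', f, hf, fun y => h0 y trivial⟩

/-- elements which are finite sums of elements coming from members of the class -/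
theorem of_sum [good.IsMultiplicative] {ι : Type*} {h : D ⥤ ModuleCat.{w} B} (h' : ι → (D ⥤ ModuleCat.{w} B))
    (a : ∀ i, h' i ⟶ h)
    (hs : ∀ (Y : D), (⨆ i, LinearMap.range ((a i).app Y).hom) = ⊤)
    (H : ∀ i, LL good (h' i)) : LL good h := by
  intro Y y
  have hy : y ∈ ⨆ i, LinearMap.range ((a i).app Y).hom := by rw [hs Y]; trivial
  -- every element of the sup is killed by some good map after any map out of `Y`
  have key : ∀ (Y₀ : D) (g : Y ⟶ Y₀), ∃ (Y' : D) (f : Y₀ ⟶ Y'), good f ∧ (h.map (g ≫ f)).hom y = 0 := by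
    refine Submodule.iSup_induction (fun i => LinearMap.range ((a i).app Y).hom)
      (motive := fun y => ∀ (Y₀ : D) (g : Y ⟶ Y₀), ∃ (Y' : D) (f : Y₀ ⟶ Y'), good f ∧ (h.map (g ≫ f)).hom y = 0)
      hy ?_ ?_ ?_
    · rintro i _ ⟨x, rfl⟩ Y₀ g
      obtain ⟨Y', f, hf, h0⟩ := H i Y₀ (((h' i).map g).hom x)
      refine ⟨Y', f, hf, ?_⟩
      rw [← nat_apply, map_comp_apply, h0, map_zero]
    · intro Y₀ g
      exact ⟨Y₀, 𝟙 _, good.id_mem _, map_zero _⟩
    · intro y₁ y₂ k₁ k₂ Y₀ g
      obtain ⟨Y₁, f₁, hf₁, h₁⟩ := k₁ Y₀ g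
      obtain ⟨Y₂, f₂, hf₂, h₂⟩ := k₂ Y₁ (g ≫ f₁)
      refine ⟨Y₂, f₁ ≫ f₂, good.comp_mem _ _ hf₁ hf₂, ?_⟩
      rw [map_add]
      have e1 : (h.map (g ≫ f₁ ≫ f₂)).hom y₁ = 0 := by
        rw [← Category.assoc, map_comp_apply, h₁, map_zero]
      have e2 : (h.map (g ≫ f₁ ≫ f₂)).hom y₂ = 0 := by
        rw [← Category.assoc, h₂]
      rw [e1, e2, add_zero]
  obtain ⟨Y', f, hf, h0⟩ := key Y (𝟙 Y)
  exact ⟨Y', f, hf, by rwa [Category.id_comp] at h0⟩

end LL

/-! ### `δ`-functors in the coefficients -/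

variable (B D)

/-- A cohomological family in the coefficient module: `h j M : D ⥤ ModuleCat B`, exact in `M`, commuting (jointly
surjectively) with directed unions. -/
structure TorFam (A : Type u) [CommRing A] where
  h : ℤ → (N : Type u) → [AddCommGroup N] → [Module A N] → (D ⥤ ModuleCat.{w} B)
  map : ∀ (j : ℤ) {N N' : Type u} [AddCommGroup N] [AddCommGroup N'] [Module A N] [Module A N'],
    (N →ₗ[A] N') → (h j N ⟶ h j N')
  mid : ∀ (j : ℤ) {N₁ N₂ N₃ : Type u} [AddCommGroup N₁] [AddCommGroup N₂] [AddCommGroup N₃] [Module A N₁]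
    [Module A N₂] [Module A N₃] (f : N₁ →ₗ[A] N₂) (g : N₂ →ₗ[A] N₃), Function.Injective f →
    Function.Surjective g → Function.Exact f g → Mid (map j f) (map j g)
  conn : ∀ (j : ℤ) {N₁ N₂ N₃ : Type u} [AddCommGroup N₁] [AddCommGroup N₂] [AddCommGroup N₃] [Module A N₁]
    [Module A N₂] [Module A N₃] (f : N₁ →ₗ[A] N₂) (g : N₂ →ₗ[A] N₃), Function.Injective f →
    Function.Surjective g → Function.Exact f g → ∃ δ : h j N₃ ⟶ h (j + 1) N₁, Mid δ (map (j + 1) f)
  union : ∀ (j : ℤ) (N : Type u) [AddCommGroup N] [Module A N] (ι : Type u) [Nonempty ι] (F : ι → Submodule A N),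
    Directed (· ≤ ·) F → (⨆ i, F i) = ⊤ → ∀ (Y : D) (y : (h j N).obj Y), ∃ (i : ι) (x : (h j (F i)).obj Y),
      ((map j (F i).subtype).app Y).hom x = y
  zero : ∀ (j : ℤ) (Y : D) (y : (h j PUnit.{u + 1}).obj Y), y = 0

variable {B D}

/-- the class of modules all of whose cohomology functors are in `LL` -/
def TorFam.P {A : Type u} [CommRing A] (T : TorFam.{w, w', v, u, t} D B A) (good : MorphismProperty D)
    (N : Type u) [AddCommGroup N] [Module A N] : Prop := ∀ j, LL good (T.h j N)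

/-- C2 for modules: `T.P good` satisfies the hypotheses of the Noetherian induction. -/
theorem TorFam.stab {A : Type u} [CommRing A] (T : TorFam.{w, w', v, u, t} D B A) [good.IsMultiplicative] :
    K10.Stab A (fun N [AddCommGroup N] [Module A N] => T.P good N) where
  ext N₁ N₂ N₃ _ _ _ _ _ _ f g hf hg hfg H₁ H₃ j := LL.mid _ _ (T.mid j f g hf hg hfg) (H₁ j) (H₃ j)
  ker N₁ N₂ N₃ _ _ _ _ _ _ f g hf hg hfg H₂ H₃ j := by
    obtain ⟨i, rfl⟩ : ∃ i, j = i + 1 := ⟨j - 1, by ring⟩
    obtain ⟨δ, hδ⟩ := T.conn i f g hf hg hfg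
    exact LL.mid δ _ hδ (H₃ i) (H₂ (i + 1))
  union N _ _ ι _ F hd hs H j :=
    LL.of_joint (fun i => T.h j (F i)) (fun i => T.map j (F i).subtype) (T.union j N ι F hd hs) fun i => H i j
  zero j := LL.of_zero (T.zero j)

/-- C4: if all residue fields are in the class then so is `A`. -/
theorem TorFam.self {A : Type u} [CommRing A] [IsNoetherianRing A] (T : TorFam.{w, w', v, u, t} D B A)
    [good.IsMultiplicative] (hk : ∀ (q : Ideal A) [q.IsPrime], T.P good q.ResidueField) : T.P good A :=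
  K10.Stab.self T.stab hk

end Groth.Agent.ResProp.EF.K894
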