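import Groth.Agent.ResProp.EF.K294.Defs
import Groth.Agent.ResProp.EF.K894.LL
import Mathlib.Algebra.Homology.Monoidal
import Mathlib.Algebra.Homology.HomologySequenceLemmas
import Mathlib.CategoryTheory.Limits.Preserves.Shapes.Products

/-!
# Functors to complexes of modules with killable cohomology (node C3, part (a))

`HL good W` : all cohomology classes of `W Y` are killed by good maps `Y ⟶ Y'`. If `HL good W` then
`HL good (W ⊗ P)` for every bounded above complex `P` of projective modules (`HL.tens`).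
-/

set_option autoImplicit false
set_option backward.defeqAttrib.useBackward true
set_option backward.isDefEq.respectTransparency false

universe w w' v u t

open CategoryTheory CategoryTheory.Limits MonoidalCategory HomologicalComplex

namespace Groth.Agent.ResProp.EF.K894

open Groth.Agent.PerfB.RingKFlat Groth.Agent.Dcoh.KFlatAbs Groth.Agent.Dcoh.KFlatSES Groth.Agent.Dcoh.Sigma
open K294 (CM tens)

variable {D : Type t} [Category.{v} D] (good : MorphismProperty D) {A : Type u} [CommRing A]

/-- cohomology in degree `j` -/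
noncomputable abbrev hf (A : Type u) [CommRing A] (j : ℤ) : CM A ⥤ ModuleCat.{u} A :=
  HomologicalComplex.homologyFunctor (ModuleCat.{u} A) (ComplexShape.up ℤ) j

/-- `- ⊗ P` -/
noncomputable abbrev tr (P : CM A) : CM A ⥤ CM A := (TR A).map₂CochainComplex.flip.obj P

/-- `- ⊗ f` -/
noncomputable abbrev trMap {P P' : CM A} (f : P ⟶ P') : tr P ⟶ tr P' := (TR A).map₂CochainComplex.flip.map f

/-- all cohomology classes of the values of `W` can be killed -/
def HL (W : D ⥤ CM A) : Prop := ∀ j : ℤ, LL good (W ⋙ hf A j)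

variable {good}

/-- the ranges of a colimit cocone in a module category span -/
lemma iSup_range_of_isColimit {J : Type w} [Category.{w'} J] {F : J ⥤ ModuleCat.{u} A} {c : Cocone F}
    (hc : IsColimit c) : (⨆ j, (LinearMap.range (c.ι.app j).hom : Submodule A c.pt)) = ⊤ := by
  set N : Submodule A c.pt := ⨆ j, (LinearMap.range (c.ι.app j).hom : Submodule A c.pt) with hN
  have h0 : ModuleCat.ofHom N.mkQ = 0 := by
    refine hc.hom_ext fun j => ?_
    ext x
    have : (c.ι.app j).hom x ∈ N := by
      rw [hN]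
      exact Submodule.mem_iSup_of_mem j ⟨x, rfl⟩
    simpa using this
  rw [eq_top_iff]
  intro x _
  have := congrArg (fun g => g.hom x) h0
  simpa using this

namespace HL

theorem of_iso {W W' : D ⥤ CM A} (e : W ≅ W') (H : HL good W) : HL good W' := fun j =>
  LL.of_iso (Functor.isoWhiskerRight e (hf A j)) (H j)

/-- pointwise quasi-isomorphisms -/
theorem of_quasiIso {W W' : D ⥤ CM A} (f : W ⟶ W') (hf' : ∀ Y, QuasiIso (f.app Y)) (H : HL good W) :
    HL good W' := fun j => by
  refine LL.of_surj (Functor.whiskerRight f (hf A j)) (fun Y => ?_) (H j)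
  have : IsIso ((Functor.whiskerRight f (hf A j)).app Y) := by
    have := hf' Y
    dsimp
    infer_instance
  exact ((ModuleCat.epi_iff_surjective _).1 inferInstance)

theorem of_quasiIso' {W W' : D ⥤ CM A} (f : W' ⟶ W) (hf' : ∀ Y, QuasiIso (f.app Y)) (H : HL good W) :
    HL good W' := fun j => by
  refine LL.of_inj (Functor.whiskerRight f (hf A j)) (fun Y => ?_) (H j)
  have : IsIso ((Functor.whiskerRight f (hf A j)).app Y) := by
    have := hf' Y
    dsimp
    infer_instance
  exact ((ModuleCat.mono_iff_injective _).1 inferInstance)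

/-- the middle term of a pointwise short exact sequence -/
theorem mid [good.IsMultiplicative] {W₁ W₂ W₃ : D ⥤ CM A} (a : W₁ ⟶ W₂) (b : W₂ ⟶ W₃)
    (w : ∀ Y, a.app Y ≫ b.app Y = 0) (h : ∀ Y, (ShortComplex.mk _ _ (w Y)).ShortExact)
    (H₁ : HL good W₁) (H₃ : HL good W₃) : HL good W₂ := fun j =>
  LL.mid (Functor.whiskerRight a (hf A j)) (Functor.whiskerRight b (hf A j))
    (fun Y y hy => ((ShortComplex.moduleCat_exact_iff _).1 ((h Y).homology_exact₂ j)) y hy) (H₁ j) (H₃ j)

/-- the last term of a pointwise short exact sequence -/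
theorem third [good.IsMultiplicative] {W₁ W₂ W₃ : D ⥤ CM A} (a : W₁ ⟶ W₂) (b : W₂ ⟶ W₃)
    (w : ∀ Y, a.app Y ≫ b.app Y = 0) (h : ∀ Y, (ShortComplex.mk _ _ (w Y)).ShortExact)
    (H₁ : HL good W₁) (H₂ : HL good W₂) : HL good W₃ := fun j => by
  let δ : W₃ ⋙ hf A j ⟶ W₁ ⋙ hf A (j + 1) :=
    { app := fun Y => (h Y).δ j (j + 1) rfl
      naturality := fun Y Y' f => by
        let φ : ShortComplex.mk _ _ (w Y) ⟶ ShortComplex.mk _ _ (w Y') :=
          { τ₁ := W₁.map f
            τ₂ := W₂.map f
            τ₃ := W₃.map f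
            comm₁₂ := a.naturality f
            comm₂₃ := b.naturality f }
        exact (HomologySequence.δ_naturality φ (h Y) (h Y') j (j + 1) rfl).symm }
  exact LL.mid (Functor.whiskerRight b (hf A j)) δ
    (fun Y y hy => ((ShortComplex.moduleCat_exact_iff _).1 ((h Y).homology_exact₃ j (j + 1) rfl)) y hy)
    (H₂ j) (H₁ (j + 1))

/-- the first term of a pointwise short exact sequence -/
theorem first [good.IsMultiplicative] {W₁ W₂ W₃ : D ⥤ CM A} (a : W₁ ⟶ W₂) (b : W₂ ⟶ W₃)
    (w : ∀ Y, a.app Y ≫ b.app Y = 0) (h : ∀ Y, (ShortComplex.mk _ _ (w Y)).ShortExact)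
    (H₂ : HL good W₂) (H₃ : HL good W₃) : HL good W₁ := fun j => by
  obtain ⟨i, rfl⟩ : ∃ i, j = i + 1 := ⟨j - 1, by ring⟩
  let δ : W₃ ⋙ hf A i ⟶ W₁ ⋙ hf A (i + 1) :=
    { app := fun Y => (h Y).δ i (i + 1) rfl
      naturality := fun Y Y' f => by
        let φ : ShortComplex.mk _ _ (w Y) ⟶ ShortComplex.mk _ _ (w Y') :=
          { τ₁ := W₁.map f
            τ₂ := W₂.map f
            τ₃ := W₃.map f
            comm₁₂ := a.naturality f
            comm₂₃ := b.naturality f }
        exact (HomologySequence.δ_naturality φ (h Y) (h Y') i (i + 1) rfl).symm }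
  exact LL.mid δ (Functor.whiskerRight a (hf A (i + 1)))
    (fun Y y hy => ((ShortComplex.moduleCat_exact_iff _).1 ((h Y).homology_exact₁ i (i + 1) rfl)) y hy)
    (H₃ i) (H₂ (i + 1))

/-- colimits in the coefficient complex (filtered ones and coproducts) -/
theorem of_isColimit [good.IsMultiplicative] {J : Type w} [Category.{w'} J] [HasColimitsOfShape J (ModuleCat.{u} A)]
    [HasExactColimitsOfShape J (ModuleCat.{u} A)] (W : D ⥤ CM A) {K : J ⥤ CM A} {c : Cocone K}
    (hc : IsColimit c) (H : ∀ j, HL good (W ⋙ tr (K.obj j))) (hT : ∀ M : ModuleCat.{u} A,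
      PreservesColimitsOfShape J (tensorLeft M)) : HL good (W ⋙ tr c.pt) := by
  intro i
  refine LL.of_sum (fun j => (W ⋙ tr (K.obj j)) ⋙ hf A i)
    (fun j => Functor.whiskerRight (Functor.whiskerLeft W (trMap (c.ι.app j))) (hf A i)) (fun Y => ?_)
    (fun j => H j i)
  have h1 : ∀ M : ModuleCat.{u} A, PreservesColimitsOfShape J ((TR A).obj M) := hT
  have h2 := preservesColimitsOfShape_obj (TR A) J (W.obj Y)
  exact iSup_range_of_isColimit (isColimitOfPreserves ((TR A).map₂CochainComplex.obj (W.obj Y) ⋙ hf A i) hc)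

/-- `W ⊗ A[0]` -/
noncomputable def unitIso (A : Type u) [CommRing A] :
    tr ((single (ModuleCat.{u} A) (ComplexShape.up ℤ) 0).obj (𝟙_ (ModuleCat.{u} A))) ≅ 𝟭 (CM A) :=
  NatIso.ofComponents (fun K => ρ_ K) (fun {K L} f => by
    exact rightUnitor_naturality f)

/-- `(K ⊗ N) ⊗ P ≅ K ⊗ (N ⊗ P)` -/
noncomputable def assocIso (N P : CM A) : tr N ⋙ tr P ≅ tr (tens N P) :=
  NatIso.ofComponents (fun K => α_ K N P) (fun {K L} f => by
    have := associator_naturality f (𝟙 N) (𝟙 P)
    refine Eq.trans ?_ (this.trans ?_)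
    · rfl
    · congr 1
      rw [MonoidalCategory.id_tensorHom_id]
      rfl)

/-- shifts -/
noncomputable def shiftIso (P : CM A) (n : ℤ) : tr (P⟦n⟧) ≅ tr P ⋙ shiftFunctor (CM A) n :=
  NatIso.ofComponents (fun K => (((TR A).map₂CochainComplex.obj K).commShiftIso n).app P) (fun {K L} f => by
    have := NatTrans.shift_app_comm ((TR A).map₂CochainComplex.map f) n P
    exact this.symm)

end HL

end Groth.Agent.ResProp.EF.K894
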