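import Groth.Agent.ResProp.EF.K894.HLTens
import Groth.Agent.ResProp.EF.K66.Fib
import Groth.Agent.Dcoh.KFlatZd
import Groth.Agent.Dcoh.TensSingle

/-!
# C3: passage to residue fields

* `quasiIso_of_kfl`: `K ⊗ f` is a quasi-isomorphism for every `K` and every quasi-isomorphism `f` of K-flat complexes;
* `HL.trQuasiIso`: `HL good (W ⊗ P) ↔ HL good (W ⊗ Q)`;
* `HL.fibre` (**C3**): if all cohomology classes of `V ⊗ N` can be killed, `N` bounded above flat and `N ⊗ k` is not
  acyclic (`k` an `A`-algebra which is a field) then all cohomology classes of `V ⊗ L` can be killed, `L` a flat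
  resolution of `k`.
-/

set_option autoImplicit false
set_option backward.defeqAttrib.useBackward true
set_option backward.isDefEq.respectTransparency false

universe w w' v u t

open CategoryTheory CategoryTheory.Limits MonoidalCategory HomologicalComplex

namespace Groth.Agent.ResProp.EF.K894

open Groth.Agent.PerfB.RingKFlat Groth.Agent.Dcoh.KFlatAbs Groth.Agent.Dcoh.KFlatSES Groth.Agent.Dcoh.Sigma
  Groth.Agent.Dcoh.KFlatSingle Groth.Agent.Dcoh.KFlatBdd Groth.Agent.Dcoh.CxFun
open K294 (CM tens)

variable {D : Type t} [Category.{v} D] {good : MorphismProperty D} {A : Type u} [CommRing A]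

section KFlat

instance additive_flip_TR : (TR A).flip.Additive where
  map_add {M N f g} := by
    refine NatTrans.ext (funext fun L => ?_)
    exact ((TR A).obj L).map_add

lemma preservesHomology_tensorRight' (M : ModuleCat.{u} A) (hM : Module.Flat A M) :
    (tensorRight M).PreservesHomology := by
  have := preservesHomology_tensorLeft M hM
  exact preservesHomology_of_natIso (BraidedCategory.tensorLeftIsoTensorRight M)

lemma preservesColimits_flip_obj' (M : ModuleCat.{u} A) :
    PreservesColimitsOfShape ℕ ((TR A).flip.obj M) := by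
  have : PreservesColimitsOfShape ℕ (tensorLeft M) := inferInstance
  exact preservesColimitsOfShape_of_natIso (BraidedCategory.tensorLeftIsoTensorRight M)

/-- bounded above complexes of flat modules are K-flat, in the second variable. -/
lemma kfl_right (L : CM A) (b : ℤ) [L.IsStrictlyLE b] (hL : ∀ n, Module.Flat A (L.X n)) : KFl (TR A) L := by
  have h1 : ∀ M : ModuleCat.{u} A, PreservesColimitsOfShape ℕ ((TR A).obj M) := fun M =>
    (inferInstance : PreservesColimitsOfShape ℕ (tensorLeft M))
  have h3 := hasExactColimitsOfShape_nat A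
  exact kfl_of_isStrictlyLE L b (fun n => preservesHomology_tensorRight' _ (hL n))

/-- bounded above complexes of flat modules are K-flat, in the first variable. -/
lemma kfl_left (L : CM A) (b : ℤ) [L.IsStrictlyLE b] (hL : ∀ n, Module.Flat A (L.X n)) : KFl (TR A).flip L := by
  have h1 : ∀ M : ModuleCat.{u} A, PreservesColimitsOfShape ℕ ((TR A).flip.obj M) := preservesColimits_flip_obj'
  have h3 := hasExactColimitsOfShape_nat A
  exact kfl_of_isStrictlyLE L b (fun n => preservesHomology_tensorLeft _ (hL n))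

/-- `E ⊗ f` for `E` K-flat in the first variable -/
lemma quasiIso_left {E : CM A} (h : KFl (TR A).flip E) {K L : CM A} (f : K ⟶ L) [QuasiIso f] :
    QuasiIso (((TR A).map₂CochainComplex.obj E).map f) :=
  quasiIso_map ((TR A).map₂CochainComplex.obj E) (fun L hL =>
    acyclic_of_iso (mapBifunctorFlipIso E L (TR A) (ComplexShape.up ℤ)) (h L hL)) f

/-- resolutions which are K-flat in the first variable -/
lemma exists_kfl_left (K : CM A) : ∃ (K' : CM A) (q : K' ⟶ K), QuasiIso q ∧ KFl (TR A).flip K' := by
  have e0 := hasExactColimitsOfShape_nat A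
  have e1 : ∀ M : ModuleCat.{u} A, PreservesColimitsOfShape ℕ ((TR A).flip.obj M) := preservesColimits_flip_obj'
  have e2 : ∀ M : ModuleCat.{u} A, PreservesColimitsOfShape (Discrete ℤ) ((TR A).flip.obj M) := fun M => by
    have : PreservesColimitsOfShape (Discrete ℤ) (tensorLeft M) := inferInstance
    exact preservesColimitsOfShape_of_natIso (BraidedCategory.tensorLeftIsoTensorRight M)
  have hflat : ∀ M : ModuleCat.{u} A, Projective M → ((TR A).flip.flip.obj M).PreservesHomology := fun M hM => by
    have h1 : Module.Projective A M := inferInstance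
    exact preservesHomology_tensorLeft M inferInstance
  obtain ⟨N, c, hc, -, h⟩ := Groth.Agent.Dcoh.CellRes.exists_resolution
    (P := fun M : ModuleCat.{u} A => Projective M) (goodClass_projective A).enough K
  refine ⟨N, c, hc, h (KFl (TR A).flip) (fun F hF => Groth.Agent.Dcoh.KFlatZd.kfl_zd F (fun n => hflat _ (hF n)))
    (fun F hF K' φ hK' => KFl.mappingCone φ
      (Groth.Agent.Dcoh.KFlatZd.kfl_zd F (fun n => hflat _ (hF n))) hK')
    (fun S cc hcc hS => KFl.of_isColimit (T := (TR A).flip) (cK := cc) hcc hS)⟩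

/-- `K ⊗ f` is a quasi-isomorphism for all `K` if `f` is a quasi-isomorphism of K-flat complexes. -/
theorem quasiIso_of_kfl (K : CM A) {P Q : CM A} (f : P ⟶ Q) [QuasiIso f] (hP : KFl (TR A) P)
    (hQ : KFl (TR A) Q) : QuasiIso (((TR A).map₂CochainComplex.obj K).map f) := by
  obtain ⟨K', q, hq, hK'⟩ := exists_kfl_left K
  have h1 : QuasiIso (((TR A).map₂CochainComplex.map q).app P) := hP.quasiIso q
  have h2 : QuasiIso (((TR A).map₂CochainComplex.map q).app Q) := hQ.quasiIso q
  have h3 : QuasiIso (((TR A).map₂CochainComplex.obj K').map f) := quasiIso_left hK' f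
  have h4 : QuasiIso (((TR A).map₂CochainComplex.map q).app P ≫ ((TR A).map₂CochainComplex.obj K).map f) := by
    rw [← NatTrans.naturality]
    infer_instance
  exact quasiIso_of_comp_left (((TR A).map₂CochainComplex.map q).app P) _

end KFlat

namespace HL

variable {W : D ⥤ CM A}

/-- change of the coefficient complex along a quasi-isomorphism of K-flat complexes -/
theorem trQuasiIso {P Q : CM A} (f : P ⟶ Q) [QuasiIso f] (hP : KFl (TR A) P) (hQ : KFl (TR A) Q) :
    HL good (W ⋙ tr P) ↔ HL good (W ⋙ tr Q) :=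
  ⟨fun H => of_quasiIso (Functor.whiskerLeft W (trMap f)) (fun Y => quasiIso_of_kfl (W.obj Y) f hP hQ) H,
    fun H => of_quasiIso' (Functor.whiskerLeft W (trMap f)) (fun Y => quasiIso_of_kfl (W.obj Y) f hP hQ) H⟩

/-- retracts up to homotopy of the coefficient complex -/
theorem trHomotopy {P Q : CM A} (i : P ⟶ Q) (r : Q ⟶ P) (h : Homotopy (i ≫ r) (𝟙 P))
    (H : HL good (W ⋙ tr Q)) : HL good (W ⋙ tr P) := fun j => by
  refine LL.of_retract (Functor.whiskerRight (Functor.whiskerLeft W (trMap i)) (hf A j))
    (Functor.whiskerRight (Functor.whiskerLeft W (trMap r)) (hf A j)) ?_ (H j)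
  ext1
  ext1 Y
  obtain ⟨h'⟩ := HtpyFunctor.homotopy ((TR A).map₂CochainComplex.obj (W.obj Y)) h
  have h1 := h'.homologyMap_eq j
  rw [Functor.map_comp, homologyMap_comp, CategoryTheory.Functor.map_id, homologyMap_id] at h1
  exact h1

/-- **C3** -/
theorem fibre [good.IsMultiplicative] {V : D ⥤ CM A} (N : CM A) (b : ℤ) [N.IsStrictlyLE b]
    (hN : ∀ n, Module.Flat A (N.X n)) (H : HL good (V ⋙ tr N)) {k : Type u} [Field k] [Algebra A k] (j : ℤ)
    (hj : ¬ ((((TR A).flip.obj (ModuleCat.of A k)).mapHomologicalComplex (ComplexShape.up ℤ)).obj N).ExactAt j)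
    (L : CM A) (c : ℤ) [L.IsStrictlyLE c] (hL : ∀ n, Module.Flat A (L.X n))
    (ε : L ⟶ (single (ModuleCat.{u} A) (ComplexShape.up ℤ) 0).obj (ModuleCat.of A k)) [QuasiIso ε] :
    HL good (V ⋙ tr L) := by
  obtain ⟨N', p, hN'b, hN'p, hp⟩ := K66.Fib.exists_free N b
  obtain ⟨P, q, hPc, hPp, hq⟩ := K66.Fib.exists_free L c
  have projFlat : ∀ M : ModuleCat.{u} A, Projective M → Module.Flat A M := fun M hM => by
    have h1 : Module.Projective A M := inferInstance
    infer_instance
  have kN := kfl_right N b hN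
  have kN' := kfl_right N' b (fun n => projFlat _ (hN'p n))
  have kL := kfl_right L c hL
  have kP := kfl_right P c (fun n => projFlat _ (hPp n))
  -- `N' ⊗ k` is not exact in degree `j`
  have hj' : ¬ ((((TR A).flip.obj (ModuleCat.of A k)).mapHomologicalComplex (ComplexShape.up ℤ)).obj N').ExactAt j := by
    have key : ∀ (E : CM A), (∀ n, Module.Flat A (E.X n)) → E.IsStrictlyLE b →
        (((((TR A).flip.obj (ModuleCat.of A k)).mapHomologicalComplex (ComplexShape.up ℤ)).obj E).ExactAt j ↔
          (K294.tens E P).ExactAt j) := fun E hE hEb => by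
      have a1 : QuasiIso (((TR A).map₂CochainComplex.obj E).map (q ≫ ε)) := quasiIso_left (kfl_left E b hE) _
      rw [exactAt_iff_of_quasiIsoAt (((TR A).map₂CochainComplex.obj E).map (q ≫ ε)) j]
      exact exactAt_iff_of_quasiIsoAt (singleIso (TR A) E (ModuleCat.of A k)).hom j
    rw [key N hN inferInstance] at hj
    rw [key N' (fun n => projFlat _ (hN'p n)) hN'b]
    have a3 : QuasiIso (((TR A).map₂CochainComplex.map p).app P) := kP.quasiIso p
    rwa [exactAt_iff_of_quasiIsoAt (((TR A).map₂CochainComplex.map p).app P) j]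
  have h1 : HL good (V ⋙ tr N') := (trQuasiIso p kN' kN).2 H
  have h2 : HL good ((V ⋙ tr N') ⋙ tr P) := tens h1 P c hPp
  have h3 : HL good (V ⋙ tr (K294.tens N' P)) :=
    of_iso (Functor.associator _ _ _ ≪≫ Functor.isoWhiskerLeft V (assocIso N' P)) h2
  obtain ⟨i, r, ⟨h⟩⟩ := K66.Fib.exists_retract (k := k) N' P b c hN'p hPp (q ≫ ε) j hj'
  have h4 : HL good (V ⋙ tr (P⟦-j⟧)) := trHomotopy i r h h3
  have h5 : HL good (V ⋙ tr ((P⟦-j⟧)⟦j⟧)) := trShift j h4
  have h6 : HL good (V ⋙ tr P) := trIso (shiftNegShift P j) h5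
  exact (trQuasiIso q kP kL).1 h6

end HL

end Groth.Agent.ResProp.EF.K894
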