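import Groth.Agent.ResProp.EF.K894.C3
import Groth.Agent.ResProp.EF.K926.Union

/-!
# C4: from residue fields to all finite modules

`HL.resIndep`: `HL good (W ⊗ L)` depends only on the module resolved by `L`.
`HL.stab`: the modules `M` with `HL good (W ⊗ Res M)` form a class as in `K10.Stab`.
`HL.self` (**C4**): if `HL good (W ⊗ Res κ(q))` for all primes `q` then `HL good W`.
-/

set_option autoImplicit false
set_option backward.defeqAttrib.useBackward true
set_option backward.isDefEq.respectTransparency false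

universe w w' v u t

open CategoryTheory CategoryTheory.Limits MonoidalCategory HomologicalComplex

namespace Groth.Agent.ResProp.EF.K894

open Groth.Agent.PerfB.RingKFlat Groth.Agent.Dcoh.KFlatAbs Groth.Agent.Dcoh.KFlatSES
  Groth.Agent.Dcoh.KFlatSingle Groth.Agent.Dcoh.CxFun
open K294 (CM)

variable {D : Type t} [Category.{v} D] {good : MorphismProperty D} {A : Type u} [CommRing A]

/-- lifts of quasi-isomorphisms from projective resolutions -/
lemma exists_lift_quasiIso {P L S : CM A} [P.IsKProjective] (p : P ⟶ S) [QuasiIso p] (ε : L ⟶ S) [QuasiIso ε] :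
    ∃ g : P ⟶ L, QuasiIso g := by
  obtain ⟨g, ⟨h⟩⟩ := K235.KProjLift.exists_lift ε p
  refine ⟨g, ?_⟩
  have h1 : QuasiIso (g ≫ ε) := by
    rw [quasiIso_iff]
    intro i
    rw [quasiIsoAt_iff_isIso_homologyMap, h.homologyMap_eq i]
    infer_instance
  exact quasiIso_of_comp_right g ε

namespace HL

variable {W : D ⥤ CM A}

/-- independence of the resolution -/
theorem resIndep (S : CM A) (c : ℤ) [S.IsStrictlyLE c] (L L' : CM A) (b b' : ℤ) [L.IsStrictlyLE b] [L'.IsStrictlyLE b']
    (hL : ∀ n, Module.Flat A (L.X n)) (hL' : ∀ n, Module.Flat A (L'.X n))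
    (ε : L ⟶ S) [QuasiIso ε] (ε' : L' ⟶ S) [QuasiIso ε']
    (H : HL good (W ⋙ tr L)) : HL good (W ⋙ tr L') := by
  obtain ⟨P, p, hPc, hPp, hp⟩ := K66.Fib.exists_free S c
  have hK : P.IsKProjective := CochainComplex.isKProjective_of_projective P c
  have kP := kfl_right P c (fun n => by
    have h0 := hPp n
    have h1 : Module.Projective A (P.X n) := inferInstance
    infer_instance)
  obtain ⟨g, hg⟩ := exists_lift_quasiIso p ε
  obtain ⟨g', hg'⟩ := exists_lift_quasiIso p ε'
  exact (trQuasiIso g' kP (kfl_right L' b' hL')).1 ((trQuasiIso g kP (kfl_right L b hL)).2 H)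

end HL

section Res

open K926

variable {N₁ N₂ N₃ : ModuleCat.{u} A} (f : N₁ ⟶ N₂) (g : N₂ ⟶ N₃)

/-- the short exact sequence `0 → Res N₁ → Res N₂ → coker → 0` -/
noncomputable def resS : ShortComplex (CM A) :=
  ShortComplex.mk ((Res A).map f) (cokernel.π ((Res A).map f)) (cokernel.condition _)

lemma resS_shortExact (hf : Function.Injective f.hom) : (resS f).ShortExact where
  exact := ShortComplex.exact_of_g_is_cokernel _ (cokernelIsCokernel _)
  mono_f := by
    have : ∀ i, Mono (((Res A).map f).f i) := fun i => by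
      obtain ⟨r, hr⟩ := res_split f hf i
      exact mono_of_mono_fac hr
    exact HomologicalComplex.mono_of_mono_f _ this
  epi_g := by dsimp [resS]; infer_instance

/-- degreewise splittings -/
noncomputable def resS_splitting (hf : Function.Injective f.hom) (i : ℤ) :
    ((resS f).map (eval _ (ComplexShape.up ℤ) i)).Splitting :=
  have h := (resS_shortExact f hf).map_of_exact (eval (ModuleCat.{u} A) (ComplexShape.up ℤ) i)
  ShortComplex.Splitting.ofExactOfRetraction _ h.exact (res_split f hf i).choose (res_split f hf i).choose_spec h.epi_g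

lemma resS_isStrictlyLE (hf : Function.Injective f.hom) : (resS f).X₃.IsStrictlyLE 0 := by
  rw [CochainComplex.isStrictlyLE_iff]
  intro i hi
  rw [IsZero.iff_id_eq_zero]
  have h := (resS_splitting f hf i).s_g
  have h0 : ((resS_splitting f hf i).s : (resS f).X₃.X i ⟶ ((Res A).obj N₂).X i) = 0 :=
    (isZero_res_X N₂ i hi).eq_of_tgt _ _
  exact h.symm.trans ((congrArg (fun a => a ≫ ((resS f).map (eval _ (ComplexShape.up ℤ) i)).g) h0).trans zero_comp)

lemma flat_of_retract' {M N : ModuleCat.{u} A} (s : M ⟶ N) (g : N ⟶ M) (h : s ≫ g = 𝟙 M) (hN : Module.Flat A N) :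
    Module.Flat A M := by
  have h' := congrArg ModuleCat.Hom.hom h
  rw [ModuleCat.hom_comp, ModuleCat.hom_id] at h'
  exact Module.Flat.of_retract s.hom g.hom h'

lemma resS_flat (hf : Function.Injective f.hom) (i : ℤ) : Module.Flat A ((resS f).X₃.X i) :=
  flat_of_retract' (M := (resS f).X₃.X i) (N := ((Res A).obj N₂).X i) (resS_splitting f hf i).s ((resS f).g.f i)
    (resS_splitting f hf i).s_g (flat_res_X N₂ i)

/-- the quasi-isomorphism `coker ⟶ N₃` -/
lemma resS_quasiIso (hf : Function.Injective f.hom) (hg : Function.Surjective g.hom)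
    (hfg : Function.Exact f.hom g.hom) :
    ∃ ε : (resS f).X₃ ⟶ (single (ModuleCat.{u} A) (ComplexShape.up ℤ) 0).obj N₃, QuasiIso ε := by
  have w : f ≫ g = 0 := by
    ext x
    exact hfg.apply_apply_eq_zero x
  let S' := ShortComplex.mk f g w
  have hS' : S'.ShortExact := by
    refine ShortComplex.ShortExact.mk' ?_ ((ModuleCat.mono_iff_injective _).2 hf) ((ModuleCat.epi_iff_surjective _).2 hg)
    rw [ShortComplex.moduleCat_exact_iff]
    intro x hx
    exact (hfg x).1 hx
  have hS'' := hS'.map_of_exact (single (ModuleCat.{u} A) (ComplexShape.up ℤ) 0)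
  let φ : resS f ⟶ S'.map (single (ModuleCat.{u} A) (ComplexShape.up ℤ) 0) :=
    { τ₁ := aug N₁
      τ₂ := aug N₂
      τ₃ := cokernel.desc _ (aug N₂ ≫ (single (ModuleCat.{u} A) (ComplexShape.up ℤ) 0).map g) (by
        rw [← Category.assoc, aug_nat, Category.assoc, ← Functor.map_comp, w, Functor.map_zero, comp_zero])
      comm₁₂ := (aug_nat f).symm
      comm₂₃ := by
        dsimp [resS]
        rw [cokernel.π_desc] }
  exact ⟨φ.τ₃, HomologySequence.quasiIso_τ₃ φ (resS_shortExact f hf) hS'' (quasiIso_aug N₁) (quasiIso_aug N₂)⟩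

end Res

namespace HL

open K926

variable {W : D ⥤ CM A}

lemma isStrictlyLE_res (M : ModuleCat.{u} A) : ((Res A).obj M).IsStrictlyLE 0 := by
  rw [CochainComplex.isStrictlyLE_iff]
  exact fun i hi => isZero_res_X M i hi

theorem resUnion (W : D ⥤ CM A) (N : Type u) [AddCommGroup N] [Module A N] (ι : Type u) [Nonempty ι]
    (F : ι → Submodule A N) (hd : Directed (· ≤ ·) F) (hs : (⨆ i, F i) = ⊤)
    (H : ∀ i, HL good (W ⋙ tr ((Res A).obj (ModuleCat.of A (F i))))) :
    HL good (W ⋙ tr ((Res A).obj (ModuleCat.of A N))) := by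
  intro j
  have h0 : ∀ i, LL good ((W ⋙ tr ((Res A).obj (ModuleCat.of A (F i)))) ⋙ hf A j) := fun i => H i j
  have a : ∀ i, (W ⋙ tr ((Res A).obj (ModuleCat.of A (F i)))) ⋙ hf A j ⟶
      (W ⋙ tr ((Res A).obj (ModuleCat.of A N))) ⋙ hf A j := fun i =>
    Functor.whiskerRight (Functor.whiskerLeft W (trMap ((Res A).map (ModuleCat.ofHom (F i).subtype)))) (hf A j)
  intro Y y
  obtain ⟨i, x, hx⟩ := union_surj F hd hs (W.obj Y) j y
  obtain ⟨Y', f, hf', h0⟩ := h0 i Y x
  refine ⟨Y', f, hf', ?_⟩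
  have h1 := nat_apply (Functor.whiskerRight (Functor.whiskerLeft W
    (trMap ((Res A).map (ModuleCat.ofHom (F i).subtype)))) (hf A j)) f x
  rw [h0, map_zero] at h1
  refine Eq.trans ?_ h1.symm
  exact congrArg _ hx.symm

theorem resZero [good.IsMultiplicative] (W : D ⥤ CM A) :
    HL good (W ⋙ tr ((Res A).obj (ModuleCat.of A PUnit.{u + 1}))) := by
  intro j
  refine LL.of_zero fun Y y => ?_
  have h0 : IsZero ((Res A).obj (ModuleCat.of A PUnit.{u + 1})) := by
    have h1 : IsZero (ModuleCat.of A PUnit.{u + 1}) := ModuleCat.isZero_of_subsingleton _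
    rw [IsZero.iff_id_eq_zero] at h1 ⊢
    rw [← CategoryTheory.Functor.map_id, h1, res_map_zero]
  have h1 : IsZero ((W ⋙ tr ((Res A).obj (ModuleCat.of A PUnit.{u + 1}))).obj Y) :=
    Functor.map_isZero ((TR A).map₂CochainComplex.obj (W.obj Y)) h0
  exact @Subsingleton.elim _ (ModuleCat.subsingleton_of_isZero ((hf A j).map_isZero h1)) _ _

theorem stab [good.IsMultiplicative] (W : D ⥤ CM A) :
    K10.Stab A (fun N [AddCommGroup N] [Module A N] => HL good (W ⋙ tr ((Res A).obj (ModuleCat.of A N)))) := by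
  have key : ∀ (N₁ N₂ N₃ : Type u) [AddCommGroup N₁] [AddCommGroup N₂] [AddCommGroup N₃] [Module A N₁] [Module A N₂]
      [Module A N₃] (f : N₁ →ₗ[A] N₂) (g : N₂ →ₗ[A] N₃), Function.Injective f → Function.Surjective g →
      Function.Exact f g → (HL good (W ⋙ tr (resS (ModuleCat.ofHom f)).X₃) ↔
        HL good (W ⋙ tr ((Res A).obj (ModuleCat.of A N₃)))) := by
    intro N₁ N₂ N₃ _ _ _ _ _ _ f g hf hg hfg
    obtain ⟨ε, hε⟩ := resS_quasiIso (ModuleCat.ofHom f) (ModuleCat.ofHom g) hf hg hfg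
    have h1 := resS_isStrictlyLE (ModuleCat.ofHom f) hf
    have h2 := isStrictlyLE_res (ModuleCat.of A N₃)
    have h3 := quasiIso_aug (ModuleCat.of A N₃)
    exact ⟨resIndep _ 0 _ _ 0 0 (resS_flat _ hf) (flat_res_X _) ε (aug _),
      resIndep _ 0 _ _ 0 0 (flat_res_X _) (resS_flat _ hf) (aug _) ε⟩
  have hS : ∀ (N₁ N₂ : Type u) [AddCommGroup N₁] [AddCommGroup N₂] [Module A N₁] [Module A N₂]
      (f : N₁ →ₗ[A] N₂), Function.Injective f → ∀ K : CM A,
      ((resS (ModuleCat.ofHom f)).map ((TR A).map₂CochainComplex.obj K)).ShortExact := fun N₁ N₂ _ _ _ _ f hf K =>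
    shortExact_map (TR A) K (resS (ModuleCat.ofHom f)) fun p q =>
      ((resS_splitting (ModuleCat.ofHom f) hf q).map ((TR A).obj (K.X p))).shortExact
  refine ⟨?_, ?_, ?_, ?_⟩
  · intro N₁ N₂ N₃ _ _ _ _ _ _ f g hf hg hfg H₁ H₃
    exact mid (Functor.whiskerLeft W (trMap (resS (ModuleCat.ofHom f)).f))
      (Functor.whiskerLeft W (trMap (resS (ModuleCat.ofHom f)).g))
      (fun Y => ((resS (ModuleCat.ofHom f)).map ((TR A).map₂CochainComplex.obj (W.obj Y))).zero)
      (fun Y => hS N₁ N₂ f hf (W.obj Y)) H₁ ((key N₁ N₂ N₃ f g hf hg hfg).2 H₃)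
  · intro N₁ N₂ N₃ _ _ _ _ _ _ f g hf hg hfg H₂ H₃
    exact first (Functor.whiskerLeft W (trMap (resS (ModuleCat.ofHom f)).f))
      (Functor.whiskerLeft W (trMap (resS (ModuleCat.ofHom f)).g))
      (fun Y => ((resS (ModuleCat.ofHom f)).map ((TR A).map₂CochainComplex.obj (W.obj Y))).zero)
      (fun Y => hS N₁ N₂ f hf (W.obj Y)) H₂ ((key N₁ N₂ N₃ f g hf hg hfg).2 H₃)
  · intro N _ _ ι _ F hd hs H
    exact resUnion W N ι F hd hs H
  · exact resZero W

/-- **C4** -/
theorem self [IsNoetherianRing A] [good.IsMultiplicative] (W : D ⥤ CM A)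
    (H : ∀ (q : Ideal A) [q.IsPrime], HL good (W ⋙ tr ((Res A).obj (ModuleCat.of A q.ResidueField)))) :
    HL good W := by
  have h1 : HL good (W ⋙ tr ((Res A).obj (ModuleCat.of A A))) := K10.Stab.self (stab W) H
  have h2 := isStrictlyLE_res (ModuleCat.of A A)
  have h3 := quasiIso_aug (ModuleCat.of A A)
  have h4 : HL good (W ⋙ tr ((single (ModuleCat.{u} A) (ComplexShape.up ℤ) 0).obj (ModuleCat.of A A))) := by
    refine resIndep ((single (ModuleCat.{u} A) (ComplexShape.up ℤ) 0).obj (ModuleCat.of A A)) 0 _ _ 0 0 (flat_res_X _)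
      (fun n => ?_) (aug _) (𝟙 _) h1
    by_cases hn : n = 0
    · subst hn
      have e : ((single (ModuleCat.{u} A) (ComplexShape.up ℤ) 0).obj (ModuleCat.of A A)).X 0 ≃ₗ[A] A :=
        (singleObjXSelf (ComplexShape.up ℤ) 0 (ModuleCat.of A A)).toLinearEquiv
      exact Module.Flat.of_linearEquiv e
    · have := ModuleCat.subsingleton_of_isZero
        (isZero_single_obj_X (ComplexShape.up ℤ) 0 (ModuleCat.of A A) n hn)
      infer_instance
  exact of_iso (Functor.isoWhiskerLeft W (unitIso A) ≪≫ Functor.rightUnitor W) h4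

end HL

end Groth.Agent.ResProp.EF.K894
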