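import Groth.Agent.ResProp.EF.K894.C4
import Groth.Agent.ResProp.EF.K935.Perf
import Groth.Agent.ResProp.EF.K353.Defs

/-!
# F4, assembly over one chart: hits over residue fields give `Chart.Hit`

* `hits_of_residue`: killability of `H^*(us Y ⊗ Res κ(q))` for all primes `q` gives hits of all classes of `H^j(us Y)`.
* `hit_of_hits`: hits of all classes of `H^0(us Y)` by complexes with a lower Tor bound give `X.Hit`.
* `hit_of_out`: `K353.Out` at all primes gives `X.Hit` (the form used over `ℤ`).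
* `hit_of_allHit`: for every prime `q` a bounded above flat `N`, `AllHit X N`, `N ⊗ κ(q)` not exact: `X.Hit`.
-/

set_option autoImplicit false

universe w'' w' w v u t

open CategoryTheory CategoryTheory.Limits CategoryTheory.Pretriangulated HomologicalComplex CochainComplex

namespace Groth.Agent.ResProp.EF.K894

open Groth.Agent.ResProp.EF.K294 Groth.Agent.ResProp.EF.K935 Groth.Agent.PerfB.RingKFlat

variable {A : Type u} [CommRing A] {C : Type v} [Category.{w} C] [Abelian C] {X : Chart A C}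

section

variable [HasDerivedCategory.{w'} C] {TT : ObjectProperty (DerivedCategory C)}
  {P : ObjectProperty (CochainComplex C ℤ)}

/-- **C3 - C5**: from residue fields to all classes -/
theorem hits_of_residue [IsNoetherianRing A] [TT.IsTriangulated] [TT.IsClosedUnderIsomorphisms] (hP : Closed P)
    (H : ∀ (q : Ideal A) [q.IsPrime],
      HL (goodP TT P) (wP X P ⋙ tr ((K926.Res A).obj (ModuleCat.of A q.ResidueField)))) (j : ℤ) :
    Hits TT P (X.usC ⋙ hf A j) :=
  hits_of_HL hP (HL.self _ H) j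

/-- degree `0` classes of a complex with `d (-1) 0 = 0` are represented uniquely -/
lemma cycles_eq {K : CM A} (h0 : K.d (-1) 0 = 0) {c c' : K.cycles 0}
    (h : (K.homologyπ 0).hom c = (K.homologyπ 0).hom c') : c = c' := by
  have : IsIso (K.homologyπ 0) := K.isIso_homologyπ (-1) 0 (by simp) h0
  exact (ModuleCat.mono_iff_injective (K.homologyπ 0)).1 inferInstance h

/-- hits of all classes in degree `0` give `X.Hit` -/
theorem hit_of_hits (hsingle : ∀ Z : C, P ((single C (ComplexShape.up ℤ) 0).obj Z))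
    (hTT : ∀ T : CochainComplex C ℤ, TT (DerivedCategory.Q.obj T) → ∃ a : ℤ, TorGE a (X.usC.obj T))
    (H : Hits TT P (X.usC ⋙ hf A 0)) : X.Hit := by
  intro Z z
  let Y := (single C (ComplexShape.up ℤ) 0).obj Z
  let K : CM A := X.usC.obj Y
  -- the element `z` as a cycle
  have hd1 : K.d 0 1 = 0 := by
    change X.us.map (Y.d 0 1) = 0
    rw [(isZero_single_obj_X (ComplexShape.up ℤ) 0 Z 1 (by simp)).eq_of_tgt (Y.d 0 1) 0, Functor.map_zero]
  have hd0 : K.d (-1) 0 = 0 := by
    change X.us.map (Y.d (-1) 0) = 0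
    rw [(isZero_single_obj_X (ComplexShape.up ℤ) 0 Z (-1) (by simp)).eq_of_src (Y.d (-1) 0) 0, Functor.map_zero]
  let e : X.us.obj Z ⟶ K.X 0 := X.us.map (singleObjXSelf (ComplexShape.up ℤ) 0 Z).inv
  let ζ : X.us.obj Z ⟶ K.cycles 0 := K.liftCycles e 1 (by simp) (by rw [hd1, comp_zero])
  obtain ⟨T, hT, hTT', g, t, ht⟩ := H Y (hsingle Z) ((K.homologyπ 0).hom (ζ.hom z))
  obtain ⟨a, ha⟩ := hTT T hTT'
  refine ⟨a, T, ha, ?_⟩
  -- represent `t` by a cycle
  obtain ⟨c, rfl⟩ := (ModuleCat.epi_iff_surjective ((X.usC.obj T).homologyπ 0)).1 inferInstance t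
  have h1 : (cyclesMap (X.usC.map g) 0).hom c = ζ.hom z := by
    apply cycles_eq hd0
    exact (comp_eq_apply (homologyπ_naturality (X.usC.map g) 0) c).symm.trans ht
  have h2 : ((X.usC.map g).f 0).hom (((X.usC.obj T).iCycles 0).hom c) = e.hom z := by
    have h3 := comp_eq_apply (cyclesMap_i (X.usC.map g) 0) c
    rw [h1] at h3
    have h4 := comp_eq_apply ((K.liftCycles_i e 1 (by simp) (by rw [hd1, comp_zero])).trans (Category.id_comp e).symm) z
    exact h3.symm.trans h4
  refine ⟨⟨g.f 0 ≫ (singleObjXSelf (ComplexShape.up ℤ) 0 Z).hom, ((X.usC.obj T).iCycles 0).hom c, ?_, ?_, ?_⟩⟩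
  · rw [← Category.assoc, ← g.comm,
      (isZero_single_obj_X (ComplexShape.up ℤ) 0 Z (-1) (by simp)).eq_of_src (Y.d (-1) 0) 0, comp_zero, zero_comp]
  · have h5 : (X.usC.obj T).iCycles 0 ≫ (X.usC.obj T).d 0 1 = 0 ≫ (0 : (X.usC.obj T).cycles 0 ⟶ (X.usC.obj T).X 1) := by
      rw [(X.usC.obj T).iCycles_d 0 1, comp_zero]
    exact comp_eq_apply (d := (0 : (X.usC.obj T).cycles 0 ⟶ (X.usC.obj T).X 1)) h5 c
  · have h6 : e ≫ X.us.map (singleObjXSelf (ComplexShape.up ℤ) 0 Z).hom = 𝟙 _ ≫ 𝟙 _ :=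
      ((X.us.map_comp _ _).symm.trans ((congrArg X.us.map (Iso.inv_hom_id _)).trans (X.us.map_id _))).trans
        (Category.comp_id _).symm
    have h7 := comp_eq_apply h6 z
    have h8 : (X.us.map (singleObjXSelf (ComplexShape.up ℤ) 0 Z).hom).hom
        (((X.usC.map g).f 0).hom (((X.usC.obj T).iCycles 0).hom c)) = z := by
      rw [h2]
      exact h7
    have h9 := comp_eq_apply ((X.us.map_comp (g.f 0) (singleObjXSelf (ComplexShape.up ℤ) 0 Z).hom).symm.trans
      (Category.id_comp _).symm) (((X.usC.obj T).iCycles 0).hom c)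
    exact h9.symm.trans h8

end

attribute [local instance] HasDerivedCategory.standard

lemma bdd_single (Z : C) : BddP C ((single C (ComplexShape.up ℤ) 0).obj Z) :=
  ⟨0, 0, inferInstance, inferInstance⟩

/-- hits of the classes of `H^j(us Y ⊗ L)` by bounded complexes with a lower Tor bound -/
theorem hits_of_out (L : CM A) (j : ℤ) (H : K353.Out X.us L j) :
    Hits (K10.TTor X) (BddP C) (X.usC ⋙ tr L ⋙ hf A j) := by
  intro Y hY y
  obtain ⟨T, f, t, a, hT, ha, -, ht⟩ := H Y hY y
  exact ⟨T, hT, (K10.tTor_Q_iff X T).2 ⟨a, ha⟩, f, t, ht⟩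

/-- **form used over `ℤ`**: `K353.Out` at all primes gives `X.Hit`. -/
theorem hit_of_out [IsNoetherianRing A]
    (H : ∀ (q : Ideal A) [q.IsPrime] (j : ℤ), K353.Out X.us ((K926.Res A).obj (ModuleCat.of A q.ResidueField)) j) :
    X.Hit := by
  refine hit_of_hits (TT := K10.TTor X) (P := BddP C) bdd_single (fun T hT => (K10.tTor_Q_iff X T).1 hT) ?_
  refine hits_of_residue closed_bdd (fun q hq j => ?_) 0
  exact LL_of_hits (h := X.usC ⋙ tr ((K926.Res A).obj (ModuleCat.of A q.ResidueField)) ⋙ hf A j)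
    closed_bdd.toConeClosed (fun f Hf => hinv X _ j f Hf) (hits_of_out _ j (H q j))

/-- killability at `κ(q)` from `AllHit X N` -/
theorem hl_residue_of_allHit (N : CM A) (b : ℤ) [N.IsStrictlyLE b] (hN : ∀ n, Module.Flat A (N.X n))
    (H : F5.AllHit X N) (q : Ideal A) [q.IsPrime] (j : ℤ)
    (hj : ¬ ((((TR A).flip.obj (ModuleCat.of A q.ResidueField)).mapHomologicalComplex
      (ComplexShape.up ℤ)).obj N).ExactAt j) :
    HL (goodP (TP X) (BddP C)) (wP X (BddP C) ⋙ tr ((K926.Res A).obj (ModuleCat.of A q.ResidueField))) := by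
  have h1 : HL (goodP (TP X) (BddP C)) (wP X (BddP C) ⋙ tr N) := HL_of_hits closed_bdd N (hits_of_allHit H)
  have h2 := HL.isStrictlyLE_res (ModuleCat.of A q.ResidueField)
  have h3 := K926.quasiIso_aug (ModuleCat.of A q.ResidueField)
  exact HL.fibre (k := q.ResidueField) N b hN h1 j hj _ 0 (K926.flat_res_X _) (K926.aug _)

/-- **F4 over one ring** -/
theorem hits_of_allHit' [IsNoetherianRing A]
    (H : ∀ (q : Ideal A) [q.IsPrime], ∃ (N : CM A) (b : ℤ) (_ : N.IsStrictlyLE b) (j : ℤ),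
      (∀ n, Module.Flat A (N.X n)) ∧ F5.AllHit X N ∧
      ¬ ((((TR A).flip.obj (ModuleCat.of A q.ResidueField)).mapHomologicalComplex
        (ComplexShape.up ℤ)).obj N).ExactAt j) (j : ℤ) :
    Hits (TP X) (BddP C) (X.usC ⋙ hf A j) :=
  hits_of_residue closed_bdd (fun q hq => by
    obtain ⟨N, b, hb, i, hN, hA, hj⟩ := H q
    exact hl_residue_of_allHit N b hN hA q i hj) j

end Groth.Agent.ResProp.EF.K894
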