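import Groth.Agent.ResProp.EF.K894.HL
import Mathlib.Algebra.Homology.HomotopyCategory.ShiftSequence
import Mathlib.Algebra.Homology.HomotopyCategory.SingleFunctors
import Mathlib.Algebra.Category.ModuleCat.AB
import Mathlib.CategoryTheory.Abelian.GrothendieckAxioms.Basic

/-!
# `HL good W` implies `HL good (W ⊗ P)` for `P` bounded above with projective terms (C3, part (a))
-/

set_option autoImplicit false
set_option backward.defeqAttrib.useBackward true
set_option backward.isDefEq.respectTransparency false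

universe w w' v u t

open CategoryTheory CategoryTheory.Limits MonoidalCategory HomologicalComplex

namespace Groth.Agent.ResProp.EF.K894

open Groth.Agent.PerfB.RingKFlat Groth.Agent.Dcoh.KFlatAbs Groth.Agent.Dcoh.KFlatSES Groth.Agent.Dcoh.Sigma
open K294 (CM tens)

variable {D : Type t} [Category.{v} D] {good : MorphismProperty D} {A : Type u} [CommRing A]

namespace HL

theorem of_retract {W W' : D ⥤ CM A} (i : W ⟶ W') (r : W' ⟶ W) (h : i ≫ r = 𝟙 W) (H : HL good W') :
    HL good W := fun j =>
  LL.of_retract (Functor.whiskerRight i (hf A j)) (Functor.whiskerRight r (hf A j)) (by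
    rw [← Functor.whiskerRight_comp, h, Functor.whiskerRight_id']) (H j)

theorem shift {W : D ⥤ CM A} (n : ℤ) (H : HL good W) : HL good (W ⋙ shiftFunctor (CM A) n) := fun j =>
  LL.of_iso ((Functor.isoWhiskerLeft W
    (CochainComplex.ShiftSequence.shiftIso (ModuleCat.{u} A) n j (n + j) rfl)).symm ≪≫
      (Functor.associator _ _ _).symm) (H (n + j))

theorem of_shift {W : D ⥤ CM A} (n : ℤ) (H : HL good (W ⋙ shiftFunctor (CM A) n)) : HL good W := fun j =>
  LL.of_iso (Functor.associator _ _ _ ≪≫ (Functor.isoWhiskerLeft W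
    (CochainComplex.ShiftSequence.shiftIso (ModuleCat.{u} A) n (-n + j) j (by lia)))) (H (-n + j))

theorem trShift {W : D ⥤ CM A} {P : CM A} (n : ℤ) (H : HL good (W ⋙ tr P)) : HL good (W ⋙ tr (P⟦n⟧)) :=
  of_iso (Functor.isoWhiskerLeft W (shiftIso P n)).symm (shift n H)

theorem trIso {W : D ⥤ CM A} {P P' : CM A} (e : P ≅ P') (H : HL good (W ⋙ tr P)) : HL good (W ⋙ tr P') :=
  of_iso (Functor.isoWhiskerLeft W ((TR A).map₂CochainComplex.flip.mapIso e)) H

theorem trRetract {W : D ⥤ CM A} {P P' : CM A} (i : P ⟶ P') (r : P' ⟶ P) (h : i ≫ r = 𝟙 P)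
    (H : HL good (W ⋙ tr P')) : HL good (W ⋙ tr P) :=
  of_retract (Functor.whiskerLeft W (trMap i)) (Functor.whiskerLeft W (trMap r)) (by
    rw [← Functor.whiskerLeft_comp, ← Functor.map_comp, h, CategoryTheory.Functor.map_id]
    rfl) H

/-- `W ⊗ A[-n]` -/
theorem unit {W : D ⥤ CM A} (n : ℤ) (H : HL good W) :
    HL good (W ⋙ tr ((single (ModuleCat.{u} A) (ComplexShape.up ℤ) n).obj (𝟙_ (ModuleCat.{u} A)))) := by
  have h0 : HL good (W ⋙ tr ((single (ModuleCat.{u} A) (ComplexShape.up ℤ) 0).obj (𝟙_ (ModuleCat.{u} A)))) :=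
    of_iso (Functor.isoWhiskerLeft W (unitIso A) ≪≫ Functor.rightUnitor W).symm H
  have h1 := trShift (-n) h0
  exact trIso (((CochainComplex.singleFunctors (ModuleCat.{u} A)).shiftIso (-n) n 0 (by lia)).app
    (𝟙_ (ModuleCat.{u} A))) h1

lemma hasExact_discrete (A : Type u) [CommRing A] (I : Type u) :
    HasExactColimitsOfShape (Discrete I) (ModuleCat.{u} A) := inferInstance

lemma preserves_discrete (A : Type u) [CommRing A] (I : Type u) (M : ModuleCat.{u} A) :
    PreservesColimitsOfShape (Discrete I) (tensorLeft M) := inferInstance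

/-- `W ⊗ F[-n]`, `F` a sum of copies of `A` -/
theorem coprod [good.IsMultiplicative] {W : D ⥤ CM A} (n : ℤ) (I : Type u)
    (H : HL good W) : HL good (W ⋙ tr ((single (ModuleCat.{u} A) (ComplexShape.up ℤ) n).obj
      (∐ (fun _ : I => 𝟙_ (ModuleCat.{u} A))))) := by
  have hcol := isColimitOfPreserves (single (ModuleCat.{u} A) (ComplexShape.up ℤ) n)
    (colimit.isColimit (Discrete.functor (fun _ : I => 𝟙_ (ModuleCat.{u} A))))
  have := hasExact_discrete A I
  have h1 := of_isColimit (good := good) W hcol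
  have h2 := h1 (fun j => unit n H) (preserves_discrete A I)
  exact h2

/-- `W ⊗ M[-n]`, `M` projective -/
theorem proj [good.IsMultiplicative] {W : D ⥤ CM A} (n : ℤ) (M : ModuleCat.{u} A) [Projective M]
    (H : HL good W) : HL good (W ⋙ tr ((single (ModuleCat.{u} A) (ComplexShape.up ℤ) n).obj M)) := by
  let F : M → ModuleCat.{u} A := fun _ => 𝟙_ (ModuleCat.{u} A)
  have h1 : HL good (W ⋙ tr ((single (ModuleCat.{u} A) (ComplexShape.up ℤ) n).obj (∐ F))) := coprod n M H
  let π : (∐ F) ⟶ M := Sigma.desc fun m => ModuleCat.ofHom (LinearMap.toSpanSingleton A M m)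
  have hπ : Epi π := by
    rw [ModuleCat.epi_iff_surjective]
    intro m
    refine ⟨(Sigma.ι F m).hom (1 : A), ?_⟩
    have := congrArg (fun g => g.hom (1 : A)) (Sigma.ι_desc (f := F)
      (fun m => ModuleCat.ofHom (LinearMap.toSpanSingleton A M m)) m)
    refine Eq.trans this ?_
    exact LinearMap.toSpanSingleton_apply_one A M m
  refine trRetract ((single _ _ n).map (Projective.factorThru (𝟙 M) π)) ((single _ _ n).map π) ?_ h1
  rw [← Functor.map_comp, Projective.factorThru_comp, CategoryTheory.Functor.map_id]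

/-- stupid truncations -/
theorem sigm [good.IsMultiplicative] {W : D ⥤ CM A} (H : HL good W) (P : CM A) (b : ℤ) [P.IsStrictlyLE b]
    (hP : ∀ n, Projective (P.X n)) (m : ℕ) : HL good (W ⋙ tr (sig P (b + 1 - m))) := by
  induction m with
  | zero =>
    intro j
    refine LL.of_zero fun Y y => ?_
    have h0 : IsZero (sig P (b + 1 - (0 : ℕ))) := isZero_sig_of_isStrictlyLE P (b := b) (by simp)
    have h1 : IsZero ((W ⋙ tr (sig P (b + 1 - (0 : ℕ)))).obj Y) :=
      Functor.map_isZero ((TR A).map₂CochainComplex.obj (W.obj Y)) h0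
    have h2 := (hf A j).map_isZero h1
    exact @Subsingleton.elim _ (ModuleCat.subsingleton_of_isZero h2) _ _
  | succ m hm =>
    have h1 : HL good (W ⋙ tr (sig P (b - m + 1))) := by
      rwa [show b - m + 1 = b + 1 - m by lia]
    have := hP (b - m)
    rw [show b + 1 - ((m + 1 : ℕ) : ℤ) = b - m by lia]
    have hS : ∀ K : CM A, ((sigShort P (b - m)).map ((TR A).map₂CochainComplex.obj K)).ShortExact := fun K =>
      shortExact_map (TR A) K (sigShort P (b - m)) fun p q =>
        ((sigSplitting P (b - m) q).map ((TR A).obj (K.X p))).shortExact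
    exact mid (Functor.whiskerLeft W (trMap (sigShort P (b - m)).f))
      (Functor.whiskerLeft W (trMap (sigShort P (b - m)).g)) (fun Y => ((sigShort P (b - m)).map ((TR A).map₂CochainComplex.obj (W.obj Y))).zero)
      (fun Y => hS (W.obj Y))
      h1 (proj (b - m) _ H)

/-- **C3, part (a)** -/
theorem tens [good.IsMultiplicative] {W : D ⥤ CM A} (H : HL good W) (P : CM A) (b : ℤ) [P.IsStrictlyLE b]
    (hP : ∀ n, Projective (P.X n)) : HL good (W ⋙ tr P) := by
  have h3 := hasExactColimitsOfShape_nat A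
  have h4 : ∀ M : ModuleCat.{u} A, PreservesColimitsOfShape ℕ (tensorLeft M) := fun _ => inferInstance
  have h5 := of_isColimit (good := good) W (isColimitSigCocone P b)
  exact h5 (fun m => sigm H P b hP m) h4

end HL

end Groth.Agent.ResProp.EF.K894
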